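import Cfsg.Agent.Lib.McLThreeLocal.Point.Datum
import Cfsg.Agent.Lib.Transfer.Abelian
import Cfsg.Agent.Lib.Cores.PCore
import Cfsg.Agent.S3347

/-!
# Centralisers of the points of `J` off the axes and diagonals

For such a point `v` the stabiliser of `v` in `N(J)` is `J` or `J⟨σ⟩`; the residual of `C(v)` has an
inverted abelian Sylow subgroup, which is normal, and the signalizer hypothesis finishes.
-/

set_option autoImplicit false
set_option linter.style.haveILetI false
set_option linter.unusedSectionVars false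
set_option linter.unusedDecidableInType false
set_option synthInstance.maxSize 2000

open Subgroup CfsgLib.OrderDegrees.StrongCore
open scoped commutatorElement

namespace CfsgLib.McLThreeLocal.Point

namespace CentLe

theorem stab_unique : ∀ v : Vec, v ≠ 0 → ¬ Easy v → ∀ r : Mon, act r v = v → r ≠ 1 →
    r * r = 1 ∧ ∀ s : Mon, act s v = v → s = 1 ∨ s = r := by decide +kernel

theorem inverted_axis : ∀ v : Vec, v ≠ 0 → ¬ Easy v → ∀ r : Mon, act r v = v → r ≠ 1 →
    ∃ a b : Vec, act r a = -a ∧ act r b = -b ∧ Easy a ∧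
      ∀ i j : ZMod 3, i.val • a + j.val • b = 0 → i = 0 ∧ j = 0 := by decide +kernel

theorem right_of_cube : ∀ r : Mon, r * r = 1 → r ^ 3 = 1 → r = 1 := by decide +kernel

theorem transl_add' (u v : Vec) : transl (u + v) = transl u * transl v :=
  map_mul (SemidirectProduct.inl : V →* K0) (Multiplicative.ofAdd u) (Multiplicative.ofAdd v)

theorem act_zero' : ∀ r : Mon, act r 0 = 0 := by decide +kernel

theorem act_neg' : ∀ (r : Mon) (u : Vec), act r (-u) = -act r u := by decide +kernel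

theorem val_sub_smul : ∀ (i j : ZMod 3) (u : Vec), (i - j).val • u = i.val • u - j.val • u := by
  decide +kernel

theorem triple_self : ∀ u : Vec, -u + -u = u ∧ u + u + u = 0 := by decide +kernel

end CentLe

namespace Datum

open CentLe

variable {X : Type*} [Group X] (D : Datum X)

/-- The element of `J` with given coordinates. -/
def cl_pt (u : Vec) : X := D.e ⟨transl u, D.transl_mem u⟩

theorem cl_pt_mem (u : Vec) : D.cl_pt u ∈ D.J := (D.mem _).2 rfl

theorem cl_pt_add (u v : Vec) : D.cl_pt (u + v) = D.cl_pt u * D.cl_pt v := by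
  rw [cl_pt, cl_pt, cl_pt, ← map_mul]
  exact congrArg D.e (Subtype.ext (transl_add' u v))

theorem cl_pt_zero : D.cl_pt 0 = 1 := by
  have h := D.cl_pt_add 0 0
  rw [add_zero] at h
  exact mul_left_cancel (h.symm.trans (mul_one (D.cl_pt 0)).symm)

theorem cl_pt_neg (u : Vec) : D.cl_pt (-u) = (D.cl_pt u)⁻¹ :=
  eq_inv_of_mul_eq_one_left (by rw [← D.cl_pt_add, neg_add_cancel, D.cl_pt_zero])

theorem cl_pt_inj : Function.Injective D.cl_pt := fun u v h => by
  have := congrArg Subtype.val (D.inj h)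
  simpa [transl] using congrArg SemidirectProduct.left this

theorem cl_J_le_range : D.J ≤ D.e.range := D.range ▸ Subgroup.le_normalizer

theorem cl_exists_pt {x : X} (hx : x ∈ D.J) : ∃ u, D.cl_pt u = x := by
  obtain ⟨n, rfl⟩ := D.cl_J_le_range hx
  exact ⟨(n : K0).left.toAdd, congrArg D.e (Subtype.ext (transl_of_right ((D.mem n).1 hx)).symm)⟩

theorem cl_J_comm {x y : X} (hx : x ∈ D.J) (hy : y ∈ D.J) : x * y = y * x := by
  obtain ⟨u, rfl⟩ := D.cl_exists_pt hx
  obtain ⟨w, rfl⟩ := D.cl_exists_pt hy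
  rw [← D.cl_pt_add, ← D.cl_pt_add, add_comm]

theorem cl_e_conj (n : D.R) (u : Vec) :
    D.e n * D.cl_pt u * (D.e n)⁻¹ = D.cl_pt (act (n : K0).right u) := by
  rw [cl_pt, cl_pt, ← map_inv, ← map_mul, ← map_mul]
  refine congrArg D.e (Subtype.ext ?_)
  show (n : K0) * transl u * (n : K0)⁻¹ = transl (act (n : K0).right u)
  conv_lhs => rw [← SemidirectProduct.inl_left_mul_inr_right (n : K0)]
  rw [show (SemidirectProduct.inr (n : K0).right : K0) = ⟨1, (n : K0).right⟩ from rfl,
    show ∀ a b c : K0, a * b * c * (a * b)⁻¹ = a * (b * c * b⁻¹) * a⁻¹ from fun a b c => by group,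
    conj_transl]
  refine mul_inv_eq_iff_eq_mul.2 (SemidirectProduct.ext ?_ ?_) <;> simp [transl, mul_comm]

theorem cl_cube_J {x : X} (hx : x ∈ D.J) : x ^ 3 = 1 := by
  obtain ⟨u, rfl⟩ := D.cl_exists_pt hx
  rw [pow_succ, pow_two, ← D.cl_pt_add, ← D.cl_pt_add, (triple_self u).2, D.cl_pt_zero]

variable [Finite X]

theorem cl_isPGroup_J : IsPGroup 3 D.J := fun x => ⟨1, Subtype.ext (by simpa using D.cl_cube_J x.2)⟩

/-- A `3'`-subgroup of a subgroup containing `J`, normal there, is trivial. -/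
theorem cl_eq_bot_of_normal_core {C : Subgroup X} (hJC : D.J ≤ C) {U : Subgroup C} [hU : U.Normal]
    (hcop : (Nat.card U).Coprime 3) : U = ⊥ := by
  refine (map_eq_bot_iff_of_injective U C.subtype_injective).1 (D.signalizer _ ?_ ?_)
  · rwa [card_map_of_injective C.subtype_injective]
  · rintro j hj _ ⟨w, hw, rfl⟩
    exact ⟨⟨j, hJC hj⟩ * w * ⟨j, hJC hj⟩⁻¹, hU.conj_mem w hw _, rfl⟩

/-- The centralisers of the nontrivial elements of `J` lie in `N(J)`. -/
theorem cent_le : ∀ j ∈ D.J, j ≠ 1 → Subgroup.centralizer ({j} : Set X) ≤ D.e.range := by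
  intro j hj hj1
  obtain ⟨v, rfl⟩ := D.cl_exists_pt hj
  have hv : v ≠ 0 := fun h => hj1 (h ▸ D.cl_pt_zero)
  by_cases he : Easy v
  · exact D.cent_easy v he
  haveI : Fact (Nat.Prime 3) := ⟨Nat.prime_three⟩
  set C := centralizer ({D.cl_pt v} : Set X) with hC
  have hJC : D.J ≤ C := fun y hy => mem_centralizer_singleton_iff.2 (D.cl_J_comm hy hj)
  -- elements of `C ∩ N(J)`
  have hCN : ∀ g ∈ C, g ∈ normalizer (D.J : Set X) →
      ∃ n : D.R, D.e n = g ∧ act (n : K0).right v = v := by
    intro g hgC hgN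
    obtain ⟨n, rfl⟩ := D.range.ge hgN
    refine ⟨n, rfl, D.cl_pt_inj ?_⟩
    rw [← D.cl_e_conj]
    exact mul_inv_eq_iff_eq_mul.2 (mem_centralizer_singleton_iff.1 hgC)
  -- `J` is a Sylow subgroup of `C`
  have hp : IsPGroup 3 (D.J.subgroupOf C) := D.cl_isPGroup_J.comap_subtype
  obtain ⟨P, hP⟩ := hp.exists_le_sylow
  have hPeq : D.J.subgroupOf C = (P : Subgroup C) := by
    by_contra hne
    have hlt : (D.J.subgroupOf C).subgroupOf (P : Subgroup C) < ⊤ := lt_top_iff_ne_top.2 fun h =>
      hne (le_antisymm hP (subgroupOf_eq_top.1 h))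
    haveI := P.2.isNilpotent
    obtain ⟨y, hyn, hy⟩ := SetLike.exists_of_lt (Group.normalizerCondition_of_isNilpotent _ hlt)
    apply hy
    show ((y : C) : X) ∈ D.J
    have hN : ((y : C) : X) ∈ normalizer (D.J : Set X) := by
      rw [mem_normalizer_iff]
      intro w
      refine ⟨fun hw => (mem_normalizer_iff.1 hyn ⟨⟨w, hJC hw⟩, hP hw⟩).1 hw, fun hw => ?_⟩
      have hwC : w ∈ C := by
        have := mul_mem (mul_mem (inv_mem (y : C).2) (hJC hw)) (y : C).2
        simpa [mul_assoc] using this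
      have hwP : (⟨w, hwC⟩ : C) ∈ (P : Subgroup C) := by
        have h1 : (⟨_, hJC hw⟩ : C) ∈ (P : Subgroup C) := hP hw
        have h2 := mul_mem (mul_mem (inv_mem y.2) h1) y.2
        have e : (y : C)⁻¹ * ⟨_, hJC hw⟩ * (y : C) = ⟨w, hwC⟩ := Subtype.ext (by simp [mul_assoc])
        rwa [e] at h2
      exact (mem_normalizer_iff.1 hyn ⟨⟨w, hwC⟩, hwP⟩).2 hw
    obtain ⟨n, hn, hfix⟩ := hCN _ (y : C).2 hN
    rw [← hn, D.mem]
    by_contra hr
    obtain ⟨m, hm⟩ := P.2 y
    have hn3 : n ^ 3 ^ m = 1 := D.inj (by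
      rw [map_pow, map_one, hn]
      exact congrArg (fun a : P => ((a : C) : X)) hm)
    have hr3 : (n : K0).right ^ 3 ^ m = 1 := by
      have := congrArg (SemidirectProduct.rightHom.comp D.R.subtype) hn3
      rw [map_pow, map_one] at this
      exact this
    obtain ⟨hsq, -⟩ := stab_unique v hv he _ hfix hr
    have hord : orderOf (n : K0).right ∣ Nat.gcd (3 ^ m) 2 := Nat.dvd_gcd
      (orderOf_dvd_of_pow_eq_one hr3) (orderOf_dvd_of_pow_eq_one (by rw [pow_two]; exact hsq))
    rw [show Nat.gcd (3 ^ m) 2 = 1 from Nat.Coprime.pow_left m (by norm_num), Nat.dvd_one,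
      orderOf_eq_one_iff] at hord
    exact hr hord
  have hPmem : ∀ x : C, x ∈ (P : Subgroup C) ↔ (x : X) ∈ D.J := fun x => by rw [← hPeq]; rfl
  have hab : IsMulCommutative (P : Subgroup C) :=
    ⟨⟨fun a b => Subtype.ext (Subtype.ext (D.cl_J_comm ((hPmem _).1 a.2) ((hPmem _).1 b.2)))⟩⟩
  have hnormJ : ∀ g : C, g ∈ normalizer ((P : Subgroup C) : Set C) →
      (g : X) ∈ normalizer (D.J : Set X) := by
    intro g hg
    rw [mem_normalizer_iff]
    intro w
    refine ⟨fun hw => (hPmem _).1 ((mem_normalizer_iff.1 hg ⟨w, hJC hw⟩).1 ((hPmem _).2 hw)),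
      fun hw => ?_⟩
    have hwC : w ∈ C := by
      have := mul_mem (mul_mem (inv_mem g.2) (hJC hw)) g.2
      simpa [mul_assoc] using this
    exact (hPmem ⟨w, hwC⟩).1 ((mem_normalizer_iff.1 hg ⟨w, hwC⟩).2 ((hPmem _).2 hw))
  have hPW := CfsgLib.Transfer.abelian_inf_pResidual (p := 3) P hab
  haveI hWn : (Cfsg.pResidual 3 C).Normal := CfsgLib.Transfer.pResidual_normal
  by_cases hS : ∀ g : C, g ∈ normalizer ((P : Subgroup C) : Set C) → (g : X) ∈ D.J
  · -- no element of `C` inverts anything in `J`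
    have hbot : (P : Subgroup C) ⊓ Cfsg.pResidual 3 C = ⊥ := by
      rw [hPW, eq_bot_iff, commutator_le]
      intro x hx g hg
      rw [mem_bot, commutatorElement_eq_one_iff_mul_comm]
      exact Subtype.ext (D.cl_J_comm ((hPmem _).1 hx) (hS g hg))
    have hcompl := CfsgLib.Transfer.isComplement'_pResidual P hbot
    have hcop : (Nat.card (Cfsg.pResidual 3 C)).Coprime 3 := by
      refine ((Nat.Prime.coprime_iff_not_dvd Nat.prime_three).2 ?_).symm
      rw [← hcompl.index_eq_card]
      exact P.not_dvd_index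
    have hW := D.cl_eq_bot_of_normal_core hJC hcop
    have htop := CfsgLib.Transfer.sylow_sup_pResidual_eq_top P
    rw [hW, sup_bot_eq] at htop
    intro g hg
    exact D.cl_J_le_range ((hPmem ⟨g, hg⟩).1 (htop ▸ mem_top _))
  · simp only [not_forall] at hS
    obtain ⟨σ₀, hσ₀N, hσ₀J⟩ := hS
    have hσ₀2 : ((σ₀ : X) * σ₀) ∈ D.J := by
      obtain ⟨n₀, hn₀, hfix₀⟩ := hCN σ₀ σ₀.2 (hnormJ σ₀ hσ₀N)
      have hr₀ : (n₀ : K0).right ≠ 1 := fun h => hσ₀J (hn₀ ▸ (D.mem n₀).2 h)
      rw [← hn₀, ← map_mul, D.mem, Subgroup.coe_mul, SemidirectProduct.mul_right]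
      exact (stab_unique v hv he _ hfix₀ hr₀).1
    -- a representative of order two
    obtain ⟨σ, hσN, hσJ, hσW⟩ : ∃ σ : C, σ ∈ normalizer ((P : Subgroup C) : Set C) ∧
        (σ : X) ∉ D.J ∧ σ ∈ Cfsg.pResidual 3 C := by
      refine ⟨σ₀ ^ 3, pow_mem hσ₀N 3, fun h => hσ₀J ?_, CfsgLib.Transfer.mem_pResidual_of_coprime ?_⟩
      · have h2 := mul_mem h (inv_mem hσ₀2)
        simpa [pow_succ, mul_assoc] using h2
      · have h6 : (σ₀ ^ 3) ^ 2 = 1 := Subtype.ext (by
          have := D.cl_cube_J hσ₀2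
          rw [SubgroupClass.coe_pow, SubgroupClass.coe_pow, OneMemClass.coe_one, ← this]
          simp [pow_succ, mul_assoc])
        exact Nat.Coprime.coprime_dvd_left (orderOf_dvd_of_pow_eq_one h6) (by norm_num)
    obtain ⟨n, hn, hfix⟩ := hCN σ σ.2 (hnormJ σ hσN)
    have hr : (n : K0).right ≠ 1 := fun h => hσJ (hn ▸ (D.mem n).2 h)
    set r := (n : K0).right with hrdef
    obtain ⟨hr2, huniq⟩ := stab_unique v hv he r hfix hr
    obtain ⟨a, b, ha, hb, haE, hab'⟩ := inverted_axis v hv he r hfix hr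
    have hact : ∀ g : C, g ∈ normalizer ((P : Subgroup C) : Set C) →
        (g : X) ∈ D.J ∨ ∀ u, (g : X) * D.cl_pt u * (g : X)⁻¹ = D.cl_pt (act r u) := by
      intro g hg
      obtain ⟨m, hm, hmfix⟩ := hCN g g.2 (hnormJ g hg)
      rcases huniq _ hmfix with h | h
      · exact Or.inl (hm ▸ (D.mem m).2 h)
      · exact Or.inr fun u => by rw [← hm, D.cl_e_conj, h]
    have hσ : ∀ u, (σ : X) * D.cl_pt u * (σ : X)⁻¹ = D.cl_pt (act r u) := fun u => by
      rw [← hn, D.cl_e_conj]
    set W := Cfsg.pResidual 3 C with hW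
    -- the inverted part
    have hinvW : ∀ x ∈ (P : Subgroup C) ⊓ W, σ * x * σ⁻¹ = x⁻¹ := by
      rw [hPW]
      intro x hx
      have hPle : ⁅(P : Subgroup C), normalizer ((P : Subgroup C) : Set C)⁆ ≤ (P : Subgroup C) :=
        commutator_le.2 fun p hp g hg => by
          rw [commutatorElement_def, mul_assoc, mul_assoc]
          exact mul_mem hp (by simpa [mul_assoc] using
            (mem_normalizer_iff.1 hg p⁻¹).1 (inv_mem hp))
      induction hx using closure_induction with
      | mem x hx =>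
        obtain ⟨p, hp, g, hg, rfl⟩ := hx
        obtain ⟨u, hu⟩ := D.cl_exists_pt ((hPmem p).1 hp)
        apply Subtype.ext
        rcases hact g hg with hgJ | hgact
        · have : ⁅p, g⁆ = 1 := commutatorElement_eq_one_iff_mul_comm.2
            (Subtype.ext (D.cl_J_comm ((hPmem p).1 hp) hgJ))
          rw [this]; simp
        · show (σ : X) * ((p : X) * g * (p : X)⁻¹ * (g : X)⁻¹) * (σ : X)⁻¹ =
            ((p : X) * g * (p : X)⁻¹ * (g : X)⁻¹)⁻¹
          have e : (p : X) * g * (p : X)⁻¹ * (g : X)⁻¹ = D.cl_pt (u + -act r u) := by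
            rw [D.cl_pt_add, D.cl_pt_neg, ← hgact u, ← hu]; group
          rw [e, hσ, ← D.cl_pt_neg]
          congr 1
          have h2 : act r (act r u) = u := by rw [← act_mul, hr2, act_one]
          have h3 : act r (-act r u) = -u := by
            refine eq_neg_of_add_eq_zero_left ?_
            conv_lhs => arg 2; rw [← h2]
            rw [← act_add, neg_add_cancel]
            exact act_zero' r
          rw [act_add, h3, neg_add, neg_neg, add_comm]
      | one => simp
      | mul x y hx hy ihx ihy =>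
        have hc : Commute x y := Subtype.ext (D.cl_J_comm ((hPmem x).1 (hPle hx)) ((hPmem y).1 (hPle hy)))
        rw [show σ * (x * y) * σ⁻¹ = (σ * x * σ⁻¹) * (σ * y * σ⁻¹) by group, ihx, ihy,
          hc.inv_inv.eq, mul_inv_rev]
      | inv x _ ih =>
        rw [show σ * x⁻¹ * σ⁻¹ = (σ * x * σ⁻¹)⁻¹ by group, ih]
    have hinW : ∀ u, act r u = -u → ∀ (hu : D.cl_pt u ∈ C), (⟨D.cl_pt u, hu⟩ : C) ∈ W := by
      intro u hu huC
      have hm : (⟨D.cl_pt u, huC⟩ : C) ∈
          ⁅(P : Subgroup C), normalizer ((P : Subgroup C) : Set C)⁆ := by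
        have e : (⟨D.cl_pt u, huC⟩ : C) = ⁅(⟨D.cl_pt (-u), hJC (D.cl_pt_mem _)⟩ : C), σ⁆ := by
          apply Subtype.ext
          show D.cl_pt u = D.cl_pt (-u) * σ * (D.cl_pt (-u))⁻¹ * (σ : X)⁻¹
          rw [show D.cl_pt (-u) * σ * (D.cl_pt (-u))⁻¹ * (σ : X)⁻¹ =
            D.cl_pt (-u) * ((σ : X) * D.cl_pt (-u) * (σ : X)⁻¹)⁻¹ by group, hσ, ← D.cl_pt_neg, ← D.cl_pt_add]
          congr 1
          rw [act_neg', hu, neg_neg]
          exact (triple_self u).1.symm
        rw [e]
        exact commutator_mem_commutator ((hPmem _).2 (D.cl_pt_mem _)) hσN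
      exact (hPW.ge hm).2
    -- the Sylow subgroup of `W`
    have hidx : ¬ 3 ∣ ((P : Subgroup C).subgroupOf W).index := by
      have hsup : (P : Subgroup C) ⊔ W = ⊤ := CfsgLib.Transfer.sylow_sup_pResidual_eq_top P
      have h1 := relIndex_mul_index (inf_le_left : (P : Subgroup C) ⊓ W ≤ P)
      have h2 := relIndex_mul_index (inf_le_right : (P : Subgroup C) ⊓ W ≤ W)
      rw [inf_relIndex_left] at h1
      rw [inf_relIndex_right] at h2
      have h3 : W.relIndex (P : Subgroup C) = W.index := by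
        rw [← relIndex_sup_right (K := W) (H := (P : Subgroup C)), hsup, relIndex_top_right]
      rw [h3] at h1
      have h4 : (P : Subgroup C).relIndex W * W.index = (P : Subgroup C).index * W.index := by
        rw [h2, ← h1, mul_comm]
      show ¬ 3 ∣ (P : Subgroup C).relIndex W
      rw [Nat.eq_of_mul_eq_mul_right (Nat.pos_of_ne_zero index_ne_zero_of_finite) h4]
      exact P.not_dvd_index
    let P2 : Sylow 3 W := (P.2.comap_subtype (K := W)).toSylow hidx
    have hP2 : ∀ x : W, x ∈ (P2 : Subgroup W) ↔ ((x : C) : X) ∈ D.J := fun x => hPmem (x : C)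
    have hPa : ∀ u, act r u = -u → ∃ x : W, x ∈ (P2 : Subgroup W) ∧ ((x : C) : X) = D.cl_pt u :=
      fun u hu => ⟨⟨⟨D.cl_pt u, hJC (D.cl_pt_mem u)⟩, hinW u hu _⟩, (hP2 _).2 (D.cl_pt_mem u), rfl⟩
    -- an element moving the axis point inside `J` normalises `J`
    have hkey : ∀ g : C, (g : X)⁻¹ * D.cl_pt a * g ∈ D.J → (g : X) ∈ normalizer (D.J : Set X) := by
      intro g hga
      have hle : D.J.map (MulAut.conj (g : X)).toMonoidHom ≤ D.J := by
        rintro _ ⟨x, hx, rfl⟩
        show (g : X) * x * (g : X)⁻¹ ∈ D.J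
        have hxC : (g : X) * x * (g : X)⁻¹ ∈ C := mul_mem (mul_mem g.2 (hJC hx)) (inv_mem g.2)
        have hxa : (g : X) * x * (g : X)⁻¹ ∈ centralizer ({D.cl_pt a} : Set X) := by
          rw [mem_centralizer_singleton_iff]
          calc (g : X) * x * (g : X)⁻¹ * D.cl_pt a
              = (g : X) * (x * ((g : X)⁻¹ * D.cl_pt a * g)) * (g : X)⁻¹ := by group
            _ = (g : X) * (((g : X)⁻¹ * D.cl_pt a * g) * x) * (g : X)⁻¹ := by rw [D.cl_J_comm hx hga]
            _ = _ := by group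
        obtain ⟨m, hm, hmfix⟩ := hCN _ hxC (D.range.le (D.cent_easy a haE hxa))
        rw [← hm, D.mem]
        rcases huniq _ hmfix with h | h
        · exact h
        · have h3 : m ^ 3 = 1 := D.inj (by
            rw [map_pow, map_one, hm, conj_pow, D.cl_cube_J hx, mul_one, mul_inv_cancel])
          have := congrArg (SemidirectProduct.rightHom.comp D.R.subtype) h3
          rw [map_pow, map_one] at this
          exact right_of_cube _ (h ▸ hr2) this
      have he' := Subgroup.eq_of_le_of_card_ge hle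
        (by rw [Subgroup.card_map_of_injective (MulAut.conj (g : X)).injective])
      rw [mem_normalizer_iff]
      intro x
      conv_rhs => rw [← he']
      exact ⟨fun hx => ⟨x, hx, rfl⟩, fun ⟨y, hy, e⟩ => by
        rwa [← (MulAut.conj (g : X)).injective e]⟩
    obtain ⟨xa, hxa, hxaX⟩ := hPa a ha
    obtain ⟨xb, hxb, hxbX⟩ := hPa b hb
    have hab2 : IsMulCommutative (P2 : Subgroup W) :=
      ⟨⟨fun p q => Subtype.ext (Subtype.ext (Subtype.ext
        (D.cl_J_comm ((hP2 _).1 p.2) ((hP2 _).1 q.2))))⟩⟩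
    have hnc : ¬ IsCyclic (P2 : Subgroup W) := by
      intro hcyc
      obtain ⟨g, hg⟩ := IsCyclic.exists_generator (α := (P2 : Subgroup W))
      have hg3 : g ^ 3 = 1 := Subtype.ext (Subtype.ext (Subtype.ext (D.cl_cube_J ((hP2 _).1 g.2))))
      have hle : Nat.card (P2 : Subgroup W) ≤ 3 := by
        rw [← orderOf_eq_card_of_forall_mem_zpowers hg]
        exact orderOf_le_of_pow_eq_one (by norm_num) hg3
      let f : ZMod 3 × ZMod 3 → (P2 : Subgroup W) := fun ij =>
        ⟨xa ^ ij.1.val * xb ^ ij.2.val, mul_mem (pow_mem hxa _) (pow_mem hxb _)⟩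
      have hf : Function.Injective f := by
        intro p q h
        have h1 := congrArg (fun x : (P2 : Subgroup W) => ((((x : W)) : C) : X)) h
        have hpow : ∀ (m : ℕ) (u : Vec), D.cl_pt (m • u) = D.cl_pt u ^ m := by
          intro m u
          induction m with
          | zero => rw [zero_smul, D.cl_pt_zero, pow_zero]
          | succ m ih => rw [succ_nsmul, D.cl_pt_add, ih, pow_succ]
        simp only [f, Subgroup.coe_mul, SubgroupClass.coe_pow, hxaX, hxbX, ← hpow, ← D.cl_pt_add] at h1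
        have h2 := D.cl_pt_inj h1
        have hsub : (p.1 - q.1).val • a + (p.2 - q.2).val • b = 0 := by
          rw [val_sub_smul, val_sub_smul, sub_add_sub_comm, h2, sub_self]
        obtain ⟨e1, e2⟩ := hab' _ _ hsub
        exact Prod.ext (sub_eq_zero.1 e1) (sub_eq_zero.1 e2)
      have := Nat.card_le_card_of_injective f hf
      rw [Nat.card_eq_fintype_card, Fintype.card_prod, ZMod.card] at this
      omega
    have hnP : ∀ w : W, w ∈ normalizer ((P2 : Subgroup W) : Set W) →
        (w : C) ∈ normalizer ((P : Subgroup C) : Set C) := by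
      intro w hw
      have h1 : w⁻¹ * xa * w ∈ (P2 : Subgroup W) := by
        simpa using (mem_normalizer_iff.1 (inv_mem hw) xa).1 hxa
      have h2 := hkey (w : C) (by
        have := (hP2 _).1 h1
        simpa [← hxaX] using this)
      rw [mem_normalizer_iff]
      intro x
      rw [hPmem, hPmem]
      exact mem_normalizer_iff.1 h2 (x : X)
    have hσP2 : (⟨σ, hσW⟩ : W) ∈ normalizer ((P2 : Subgroup W) : Set W) := by
      rw [mem_normalizer_iff]
      intro x
      exact mem_normalizer_iff.1 hσN (x : C)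
    have hinv2 : ∀ w ∈ (P2 : Subgroup W), (⟨σ, hσW⟩ : W) * w * (⟨σ, hσW⟩ : W)⁻¹ = w⁻¹ :=
      fun w hw => Subtype.ext (hinvW (w : C) ⟨hw, w.2⟩)
    have hsign : ∀ w ∈ normalizer ((P2 : Subgroup W) : Set W),
        (∀ x ∈ (P2 : Subgroup W), w * x * w⁻¹ = x) ∨
          ∀ x ∈ (P2 : Subgroup W), w * x * w⁻¹ = x⁻¹ := by
      intro w hw
      rcases hact (w : C) (hnP w hw) with h | h
      · refine Or.inl fun x hx => Subtype.ext (Subtype.ext ?_)
        show (((w : C) : X)) * ((x : C) : X) * (((w : C) : X))⁻¹ = _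
        rw [D.cl_J_comm h ((hP2 x).1 hx), mul_inv_cancel_right]
      · refine Or.inr fun x hx => ?_
        rw [← hinv2 x hx]
        refine Subtype.ext (Subtype.ext ?_)
        obtain ⟨u, hu⟩ := D.cl_exists_pt ((hP2 x).1 hx)
        show (((w : C) : X)) * ((x : C) : X) * (((w : C) : X))⁻¹ =
          (σ : X) * ((x : C) : X) * (σ : X)⁻¹
        rw [← hu, h, hσ]
    have hcore : Cfsg.pPrimeCore 3 W = ⊥ := by
      haveI : ((Cfsg.pPrimeCore 3 W).map W.subtype).Normal := CfsgLib.Cores.normal_map_subtype _ _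
      refine (map_eq_bot_iff_of_injective _ W.subtype_injective).1 (D.cl_eq_bot_of_normal_core hJC ?_)
      rw [card_map_of_injective W.subtype_injective]
      exact CfsgLib.Cores.card_pPrimeCore_coprime 3
    haveI hN2 : (P2 : Subgroup W).Normal :=
      Cfsg.Agent.S3347.sylow_normal (by norm_num) hab2 hnc hσP2 hinv2 hsign hcore
    haveI := P2.characteristic_of_normal hN2
    haveI hN2C : ((P2 : Subgroup W).map W.subtype).Normal := CfsgLib.Cores.normal_map_subtype _ _
    intro g hg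
    refine D.range.ge (hkey ⟨g, hg⟩ ?_)
    have h1 := hN2C.conj_mem _ (mem_map_of_mem W.subtype hxa) (⟨g, hg⟩ : C)⁻¹
    obtain ⟨y, hy, hye⟩ := h1
    have h2 := (hP2 y).1 hy
    have h3 : ((y : C) : X) = g⁻¹ * D.cl_pt a * g := by
      rw [show (y : C) = W.subtype y from rfl, hye, ← hxaX]
      simp
    rwa [h3] at h2

end Datum

end CfsgLib.McLThreeLocal.Point
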