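import Cfsg.Agent.Lib.OrderDegrees.StrongCore.Main

/-!
# The centraliser of a point off the quadric, modulo that point

`X = C(y)/⟨y⟩`, with the image of `J` written in axis coordinates: the normaliser of `J` is
`3³ : A₄` or `3³ : S₄`, embedded in the model `K0` of `3³ : S₄`.
-/

set_option autoImplicit false

open CfsgLib.OrderDegrees.StrongCore

namespace CfsgLib.McLThreeLocal.Point

/-- A point on an axis, or a point with three nonzero coordinates. -/
def Easy (u : Vec) : Prop :=
  u ≠ 0 ∧ ((u.1 = 0 ∧ u.2.1 = 0) ∨ (u.1 = 0 ∧ u.2.2 = 0) ∨ (u.2.1 = 0 ∧ u.2.2 = 0) ∨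
    (u.1 ≠ 0 ∧ u.2.1 ≠ 0 ∧ u.2.2 ≠ 0))

instance : DecidablePred Easy := fun u => by unfold Easy; infer_instance

/-- The elements of the model over the even permutations. -/
def IsEven (n : K0) : Prop := n.right.odd = false

/-- What the recognition of `N(J)` as the whole group needs. -/
structure Datum (X : Type*) [Group X] where
  /-- the part of the model which occurs -/
  R : Subgroup K0
  R_cases : R = ⊤ ∨ ∀ n : K0, n ∈ R ↔ IsEven n
  transl_mem : ∀ u : Vec, transl u ∈ R
  /-- the identification -/
  e : R →* X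
  inj : Function.Injective e
  /-- the image of `J` -/
  J : Subgroup X
  mem : ∀ n : R, e n ∈ J ↔ (n : K0).right = 1
  range : e.range = Subgroup.normalizer (J : Set X)
  cent_easy : ∀ u : Vec, Easy u →
    Subgroup.centralizer ({e ⟨transl u, transl_mem u⟩} : Set X) ≤ e.range
  signalizer : ∀ K : Subgroup X, (Nat.card K).Coprime 3 →
    (∀ j ∈ J, ∀ k ∈ K, j * k * j⁻¹ ∈ K) → K = ⊥

end CfsgLib.McLThreeLocal.Point
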