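import Cfsg.Agent.Lib.McLThreeLocal.Point.Datum

/-!
# `N(J)` is the whole of `C(y)/⟨y⟩`

In the big case this is the recognition of `3³ : S₄`; in the small case a normal subgroup of index three
leaves the configuration `3³ : 2²`.
-/

set_option autoImplicit false
set_option linter.style.haveILetI false
set_option linter.unusedSectionVars false
set_option synthInstance.maxSize 2000

open CfsgLib.OrderDegrees CfsgLib.OrderDegrees.StrongCore

namespace CfsgLib.McLThreeLocal.Point

theorem inBlocks_even {n : K0} (h : InBlocks n) : IsEven n := h.1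

theorem inBlocks_cases : ∀ r s : Mon, r.odd = false → ¬ (r * r = 1) → s.odd = false →
    (s * s = 1 ∨ (s * r⁻¹) * (s * r⁻¹) = 1 ∨ (s * r) * (s * r) = 1) := by decide +kernel

theorem odd_mul : ∀ r s : Mon, r.odd = false → s.odd = false →
    (s * r⁻¹).odd = false ∧ (s * r).odd = false := by decide +kernel

theorem transl_decomp : ∀ u : Vec, ∃ p q : Mon, ∃ w : Vec,
    p.odd = false ∧ p * p = 1 ∧ q.odd = false ∧ q * q = 1 ∧
      u = (act p w - w) + (act q w - w) := by decide +kernel

theorem transl_add (u v : Vec) : transl (u + v) = transl u * transl v :=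
  map_mul (SemidirectProduct.inl : V →* K0) (Multiplicative.ofAdd u) (Multiplicative.ofAdd v)

namespace Datum

variable {X : Type*} [Group X] [Finite X] (D : Datum X)

/-- A normal subgroup of index three contains the part over the four-group and nothing else. -/
theorem mem_iff_inBlocks (hR : ∀ n : K0, n ∈ D.R ↔ IsEven n) {K : Subgroup X} [K.Normal]
    (hK3 : K.index = 3) (hK : ¬ D.e.range ≤ K) (n : D.R) : D.e n ∈ K ↔ InBlocks (n : K0) := by
  let π : D.R →* X ⧸ K := (QuotientGroup.mk' K).comp D.e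
  have hπ : ∀ m : D.R, D.e m ∈ K ↔ π m = 1 := fun m => (QuotientGroup.eq_one_iff _).symm
  have hc3 : Nat.card (X ⧸ K) = 3 := hK3
  haveI : Fact (Nat.Prime 3) := ⟨Nat.prime_three⟩
  haveI := isCyclic_of_prime_card hc3
  have hcomm : ∀ a b : X ⧸ K, a * b = b * a := (IsCyclic.commGroup (α := X ⧸ K)).mul_comm
  let P : Mon → Prop := fun r => r.odd = false ∧ r * r = 1
  have mR : ∀ r : Mon, r.odd = false → (⟨1, r⟩ : K0) ∈ D.R := fun r hr => (hR _).2 hr
  have hinv : ∀ m : D.R, (m : K0) * m = 1 → π m = 1 := by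
    intro m hm
    have h2 : π m ^ 2 = 1 := by
      rw [pow_two, ← map_mul, show m * m = 1 from Subtype.ext hm, map_one]
    have h3 : π m ^ 3 = 1 := by
      have h := pow_card_eq_one' (x := π m)
      rwa [hc3] at h
    rw [pow_succ, h2, one_mul] at h3
    exact h3
  have hpt : ∀ r : Mon, P r → ∀ (hr : (⟨1, r⟩ : K0) ∈ D.R), π ⟨_, hr⟩ = 1 := fun r hr _ =>
    hinv _ (SemidirectProduct.ext (by simp) hr.2)
  have hT : ∀ u : Vec, π ⟨transl u, D.transl_mem u⟩ = 1 := by
    intro u
    obtain ⟨p, q, w, hp, hp2, hq, hq2, rfl⟩ := transl_decomp u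
    have hstep : ∀ r : Mon, P r →
        π ⟨transl (act r w - w), D.transl_mem _⟩ = 1 := by
      intro r hr
      have e : (⟨transl (act r w - w), D.transl_mem _⟩ : D.R) =
          ⟨_, mR r hr.1⟩ * ⟨transl w, D.transl_mem w⟩ * (⟨_, mR r hr.1⟩)⁻¹ *
            (⟨transl w, D.transl_mem w⟩)⁻¹ := by
        apply Subtype.ext
        show transl (act r w - w) = ⟨1, r⟩ * transl w * (⟨1, r⟩ : K0)⁻¹ * (transl w)⁻¹
        rw [conj_transl]
        refine eq_mul_inv_of_mul_eq (SemidirectProduct.ext ?_ (by simp [transl]))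
        simp [transl]
      rw [e, map_mul, map_mul, map_mul, map_inv, map_inv, hpt r hr (mR r hr.1), one_mul, inv_one,
        mul_one, mul_inv_cancel]
    have e : (⟨transl (act p w - w + (act q w - w)), D.transl_mem _⟩ : D.R) =
        ⟨transl (act p w - w), D.transl_mem _⟩ * ⟨transl (act q w - w), D.transl_mem _⟩ := by
      apply Subtype.ext
      exact transl_add _ _
    rw [e, map_mul, hstep p ⟨hp, hp2⟩, hstep q ⟨hq, hq2⟩, one_mul]
  have hright : ∀ m : D.R, π m = π ⟨⟨1, (m : K0).right⟩, mR _ ((hR _).1 m.2)⟩ := by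
    intro m
    have e : m = ⟨transl (m : K0).left.toAdd, D.transl_mem _⟩ *
        ⟨⟨1, (m : K0).right⟩, mR _ ((hR _).1 m.2)⟩ := by
      apply Subtype.ext
      exact (SemidirectProduct.inl_left_mul_inr_right (m : K0)).symm
    conv_lhs => rw [e, map_mul, hT, one_mul]
  rw [hπ]
  constructor
  · intro hn
    refine ⟨(hR _).1 n.2, ?_⟩
    by_contra hsq
    refine hK fun x hx => ?_
    obtain ⟨m, rfl⟩ := hx
    rw [hπ]
    have hne := (hR _).1 n.2
    have hme := (hR _).1 m.2
    have hmn : ∀ b : D.R, (b : K0).right * (b : K0).right = 1 → π b = 1 := by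
      intro b hb
      rw [hright]
      exact hpt _ ⟨(hR _).1 b.2, hb⟩ _
    rcases inBlocks_cases _ (m : K0).right hne hsq hme with h | h | h
    · exact hmn m h
    · have := hmn (m * n⁻¹) (by simpa using h)
      rwa [map_mul, map_inv, hn, inv_one, mul_one] at this
    · have := hmn (m * n) (by simpa using h)
      rwa [map_mul, hn, mul_one] at this
  · intro hn
    rw [hright]
    exact hpt _ hn _

/-- The small case, given the normal subgroup of index three. -/
theorem range_eq_top_of_even (hR : ∀ n : K0, n ∈ D.R ↔ IsEven n)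
    (hc : ∀ j ∈ D.J, j ≠ 1 → Subgroup.centralizer ({j} : Set X) ≤ D.e.range) {K : Subgroup X}
    [K.Normal] (hK3 : K.index = 3) (hK : ¬ D.e.range ≤ K) : D.e.range = ⊤ := by
  classical
  haveI := Fintype.ofFinite K
  have hmem := D.mem_iff_inBlocks hR hK3 hK
  let H' : Subgroup K := D.e.range.subgroupOf K
  have hcoe : ∀ h : H', ∃ n : D.R, InBlocks (n : K0) ∧ D.e n = ((h : K) : X) := fun h => by
    obtain ⟨n, hn⟩ : ((h : K) : X) ∈ D.e.range := h.2
    exact ⟨n, (hmem n).1 (hn ▸ (h : K).2), hn⟩
  choose nn hnn hne using hcoe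
  have nn_mul : ∀ a b : H', nn (a * b) = nn a * nn b := fun a b => D.inj (by
    rw [hne, map_mul, hne, hne]; rfl)
  have hJR : D.J ≤ D.e.range := D.range ▸ Subgroup.le_normalizer
  have hJK : D.J ≤ K := fun j hj => by
    obtain ⟨n, rfl⟩ := hJR hj
    exact (hmem n).2 ⟨(hR _).1 n.2, by rw [(D.mem n).1 hj, one_mul]⟩
  let q : H' →* BlockThree.Q3 :=
    MonoidHom.mk' (fun h => toBlocks (nn h : K0)) fun a b => by
      rw [nn_mul]; exact toBlocks_mul _ _ (hnn a) (hnn b)
  have hq : Function.Injective q := (injective_iff_map_eq_one q).2 fun h hh => by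
    refine Subtype.ext (Subtype.ext ?_)
    rw [← hne, show nn h = 1 from Subtype.ext (toBlocks_inj _ (hnn h) hh), map_one]
    rfl
  have lift : ∀ n : K0, (hn : InBlocks n) → ∃ h : H', (nn h : K0) = n := fun n hn => by
    refine ⟨⟨⟨D.e ⟨n, (hR n).2 hn.1⟩, (hmem _).2 hn⟩, ⟨_, rfl⟩⟩, ?_⟩
    exact congrArg Subtype.val (D.inj (a₂ := ⟨n, (hR n).2 hn.1⟩) (hne _))
  have hcardJ : Nat.card D.J = 27 := by
    let f : Vec → D.J := fun u => ⟨D.e ⟨transl u, D.transl_mem u⟩, (D.mem _).2 rfl⟩
    have hf : Function.Bijective f := by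
      refine ⟨fun u v e => ?_, fun j => ?_⟩
      · have := congrArg Subtype.val (D.inj (congrArg Subtype.val e))
        simpa [transl] using congrArg SemidirectProduct.left this
      · obtain ⟨n, hn⟩ := hJR j.2
        have hr : (n : K0).right = 1 := (D.mem n).1 (hn ▸ j.2)
        refine ⟨(n : K0).left.toAdd, Subtype.ext ?_⟩
        rw [← hn]
        exact congrArg D.e (Subtype.ext (transl_of_right hr).symm)
    rw [← Nat.card_congr (Equiv.ofBijective f hf), Nat.card_eq_fintype_card]
    rfl
  let BS : BlockThree.Setting K :=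
    { H := H'
      T := D.J.subgroupOf K
      q := q
      inj := hq
      even := fun h => toBlocks_even _ (hnn h)
      hasC := fun k => by
        obtain ⟨n, hn, he⟩ := (toBlocks_surj k).1
        obtain ⟨h, hh⟩ := lift n hn
        exact ⟨h, (congrArg toBlocks hh).trans he⟩
      hasE := fun k => by
        obtain ⟨n, hn, he⟩ := (toBlocks_surj k).2
        obtain ⟨h, hh⟩ := lift n hn
        exact ⟨h, (congrArg toBlocks hh).trans he⟩
      le := fun _ hx => hJR hx
      card_T := by rw [Nat.card_congr (Subgroup.subgroupOfEquivOfLe hJK).toEquiv, hcardJ]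
      norm := by
        ext g
        rw [Subgroup.mem_subgroupOf, D.range, Subgroup.mem_normalizer_iff,
          Subgroup.mem_normalizer_iff]
        refine ⟨fun h x => ?_, fun h x => h x⟩
        refine ⟨fun hx => h ⟨x, hJK hx⟩ |>.1 hx, fun hx => ?_⟩
        have hxK : x ∈ K := by
          have h1 := ‹K.Normal›.conj_mem _ (hJK hx) (g : X)⁻¹
          simpa [mul_assoc] using h1
        exact (h ⟨x, hxK⟩).2 hx
      cent := fun t ht ht1 x hx => by
        refine hc _ ht (fun e => ht1 (Subtype.ext e)) ?_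
        rw [Subgroup.mem_centralizer_singleton_iff] at hx ⊢
        exact congrArg Subtype.val hx }
  have hle : K ≤ D.e.range := fun x hx => by
    have hT : H' = ⊤ := BS.eq_top
    have : (⟨x, hx⟩ : K) ∈ H' := by rw [hT]; exact Subgroup.mem_top _
    exact this
  have h1 : K.relIndex D.e.range * D.e.range.index = 3 := by
    rw [Subgroup.relIndex_mul_index hle, hK3]
  have h2 : K.relIndex D.e.range ≠ 1 := fun h => hK (Subgroup.relIndex_eq_one.1 h)
  rcases (Nat.dvd_prime Nat.prime_three).1 ⟨_, h1.symm⟩ with h | h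
  · exact absurd h h2
  · rw [h] at h1
    exact Subgroup.index_eq_one.1 (by omega)

/-- `N(J)` is the whole group. -/
theorem range_eq_top (hc : ∀ j ∈ D.J, j ≠ 1 → Subgroup.centralizer ({j} : Set X) ≤ D.e.range)
    (hK : D.R ≠ ⊤ → ∃ K : Subgroup X, K.Normal ∧ K.index = 3 ∧ ¬ D.e.range ≤ K) :
    D.e.range = ⊤ := by
  classical
  haveI := Fintype.ofFinite X
  by_cases hR : D.R = ⊤
  · let e' : K0 →* X := D.e.comp
      ((MonoidHom.id K0).codRestrict D.R fun n => hR ▸ Subgroup.mem_top n)
    have he : ∀ n : D.R, e' (n : K0) = D.e n := fun n => rfl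
    have hr : e'.range = D.e.range := by
      refine le_antisymm (fun x ⟨n, hn⟩ => ⟨_, hn⟩) fun x ⟨n, hn⟩ => ⟨(n : K0), (he n).trans hn⟩
    let S : StrongCore.Setting X :=
      { H := D.e.range
        J := D.J
        e := e'
        inj := fun a b h => congrArg Subtype.val (D.inj h)
        range := hr
        mem := fun n => D.mem ⟨n, hR ▸ Subgroup.mem_top n⟩
        cent := hc
        le := D.range ▸ Subgroup.le_normalizer }
    exact S.eq_top
  · obtain ⟨K, hKn, hK3, hK⟩ := hK hR
    haveI := hKn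
    exact D.range_eq_top_of_even (D.R_cases.resolve_left hR) hc hK3 hK

end Datum

end CfsgLib.McLThreeLocal.Point
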